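import Groth.Agent.Lib.AlgSp.Diag
import Groth.Agent.Lib.AlgSp.LqfDescent

/-!
# Points with values in products of rings of quasi-separated algebraic spaces
-/

set_option autoImplicit false
set_option linter.style.haveILetI false

universe u

open CategoryTheory CategoryTheory.Limits AlgebraicGeometry Opposite

namespace GrothLib.PiPoints7

/-- A quasi-affine scheme over the spectrum of a product with sections over all factors has a section. -/
theorem exists_section {ι : Type u} (A : ι → CommRingCat.{u}) {W : Scheme.{u}} [W.IsQuasiAffine]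
    (w : W ⟶ Spec (CommRingCat.of (∀ i, A i)))
    (g : ∀ i, Spec (A i) ⟶ W)
    (hg : ∀ i, g i ≫ w = Spec.map (CommRingCat.ofHom (Pi.evalRingHom (fun j => (A j : Type u)) i))) :
    ∃ s, s ≫ w = 𝟙 _ := by
  let R : CommRingCat.{u} := CommRingCat.of (∀ i, A i)
  set C := Γ(W, ⊤)
  set j : W ⟶ Spec C := W.toSpecΓ
  let c : R ⟶ C := (Scheme.ΓSpecIso R).inv ≫ w.appTop
  have hjc : j ≫ Spec.map c = w := by
    simp only [c, j, C, Spec.map_comp]
    rw [← Scheme.toSpecΓ_naturality_assoc, ← SpecMap_ΓSpecIso_hom, ← Spec.map_comp,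
      Iso.inv_hom_id, Spec.map_id, Category.comp_id]
  choose γ hγ using fun i => Spec.map_surjective (g i ≫ j)
  have hcγ : ∀ i, c ≫ γ i = CommRingCat.ofHom (Pi.evalRingHom (fun j => (A j : Type u)) i) := fun i => by
    apply Spec.map_injective
    rw [Spec.map_comp, hγ, Category.assoc, hjc, hg]
  let Γ' : C ⟶ R := CommRingCat.ofHom (RingHom.pi fun i => (γ i).hom)
  have hcΓ : c ≫ Γ' = 𝟙 R := CommRingCat.hom_ext (RingHom.ext fun a => funext fun i => congr($(hcγ i).hom a))
  -- the range of `W` in `Spec C`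
  have hopen : IsOpen (Set.range j) := j.isOpenEmbedding.isOpen_range
  have hcpt : IsCompact (Set.range j) := isCompact_range j.continuous
  obtain ⟨J, hJfg, hJ⟩ :=
    PrimeSpectrum.isCompact_isOpen_iff_ideal.1 ⟨hcpt, hopen⟩
  obtain ⟨m, b, hb⟩ := Submodule.fg_iff_exists_fin_generating_family.1 hJfg
  have htop : ∀ i, J.map (γ i).hom = ⊤ := fun i => by
    by_contra hne
    obtain ⟨P, hP, hle⟩ := Ideal.exists_le_maximal _ hne
    let P' : PrimeSpectrum (A i) := ⟨P, hP.isPrime⟩
    have h1 : PrimeSpectrum.comap (γ i).hom P' ∈ Set.range j := by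
      refine ⟨g i P', ?_⟩
      rw [← Scheme.Hom.comp_apply, ← hγ i]
      rfl
    rw [← hJ] at h1
    exact h1 (Ideal.map_le_iff_le_comap.1 hle)
  have hmap : J.map Γ'.hom = ⊤ := by
    have h2 : ∀ i, ∃ c' : Fin m → A i, ∑ k, c' k * (γ i).hom (b k) = 1 := fun i => by
      have := (Ideal.eq_top_iff_one _).1 (htop i)
      rw [← hb, Ideal.submodule_span_eq, Ideal.map_span, ← Set.range_comp, Ideal.mem_span_range_iff_exists_fun] at this
      exact this
    choose c' hc' using h2
    rw [Ideal.eq_top_iff_one, ← hb, Ideal.submodule_span_eq, Ideal.map_span, ← Set.range_comp,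
      Ideal.mem_span_range_iff_exists_fun]
    refine ⟨fun k i => c' i k, funext fun i => ?_⟩
    rw [Finset.sum_apply]
    exact hc' i
  have hrange : Set.range (Spec.map Γ') ⊆ Set.range j := by
    rintro _ ⟨p, rfl⟩
    rw [← hJ]
    intro hp
    exact p.isPrime.ne_top (top_le_iff.1 (hmap.ge.trans (Ideal.map_le_iff_le_comap.2 hp)))
  refine ⟨IsOpenImmersion.lift j (Spec.map Γ') hrange, ?_⟩
  rw [← hjc, IsOpenImmersion.lift_fac_assoc, ← Spec.map_comp, hcΓ, Spec.map_id]

open _root_.AlgSp GrothLib.AlgSp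

/-- Two points with values in a product of rings which agree on the factors are equal. -/
theorem eq_of_forall {S : Scheme.{u}} {X : Sp S} (hX : IsAlgSpace X) (hqs : IsQuasiSeparatedSp X)
    {ι : Type u} (A : ι → CommRingCat.{u}) (h : Spec (CommRingCat.of (∀ i, A i)) ⟶ S)
    (g g' : (yon S).obj (Over.mk h) ⟶ X)
    (hgg' : ∀ i, (yon S).map (Over.homMk
        (Spec.map (CommRingCat.ofHom (Pi.evalRingHom (fun j => (A j : Type u)) i))) rfl :
          Over.mk (Spec.map (CommRingCat.ofHom (Pi.evalRingHom (fun j => (A j : Type u)) i)) ≫ h) ⟶ Over.mk h) ≫ g =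
      (yon S).map (Over.homMk
        (Spec.map (CommRingCat.ofHom (Pi.evalRingHom (fun j => (A j : Type u)) i))) rfl :
          Over.mk (Spec.map (CommRingCat.ofHom (Pi.evalRingHom (fun j => (A j : Type u)) i)) ≫ h) ⟶ Over.mk h) ≫ g') :
    g = g' := by
  obtain ⟨W, fst, w, sq⟩ := exists_isPullback_of_representable hX.diag (prod.lift g g')
  haveI : QuasiCompact w.left := hqs.2 _ _ _ sq
  obtain ⟨hlqf, hlft⟩ := (repWith_diag_lqf_lft hX).2 _ _ _ sq
  haveI : LocallyQuasiFinite w.left := hlqf
  haveI : LocallyOfFiniteType w.left := hlft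
  haveI : IsSeparated w.left := (repWith_diag_separated hX).2 _ _ _ sq
  haveI : IsAffine (Over.mk h).left := inferInstanceAs (IsAffine (Spec _))
  haveI : CompactSpace W.left := QuasiCompact.compactSpace_of_compactSpace w.left
  haveI : W.left.IsQuasiAffine := GrothLib.AlgSp.isQuasiAffine_of_lqf w.left
  have hl : ∀ i, ∃ l : Over.mk (Spec.map (CommRingCat.ofHom (Pi.evalRingHom (fun j => (A j : Type u)) i)) ≫ h) ⟶ W,
      l ≫ w = Over.homMk (Spec.map (CommRingCat.ofHom (Pi.evalRingHom (fun j => (A j : Type u)) i))) rfl := fun i => by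
    let ρ : Over.mk (Spec.map (CommRingCat.ofHom (Pi.evalRingHom (fun j => (A j : Type u)) i)) ≫ h) ⟶ Over.mk h :=
      Over.homMk (Spec.map (CommRingCat.ofHom (Pi.evalRingHom (fun j => (A j : Type u)) i))) rfl
    refine ⟨(yon S).preimage (sq.lift ((yon S).map ρ ≫ g) ((yon S).map ρ) ?_), (yon S).map_injective ?_⟩
    · refine prod.hom_ext ?_ ?_
      · simp only [Limits.diag, Category.assoc, prod.lift_fst, Category.comp_id]
      · simp only [Limits.diag, Category.assoc, prod.lift_snd, Category.comp_id]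
        exact hgg' i
    · rw [Functor.map_comp, Functor.map_preimage, IsPullback.lift_snd]
  choose l hlw using hl
  obtain ⟨s, hs⟩ := exists_section A (W := W.left) w.left (fun i => (l i).left) fun i => congrArg (fun φ => φ.left) (hlw i)
  let s' : Over.mk h ⟶ W := Over.homMk s (by
    rw [← Over.w w, ← Category.assoc, hs]
    exact Category.id_comp _)
  have hs' : s' ≫ w = 𝟙 _ := by ext1; exact hs
  have key : prod.lift g g' = (yon S).map s' ≫ fst ≫ Limits.diag X := by
    rw [sq.w, ← Category.assoc, ← Functor.map_comp, hs', CategoryTheory.Functor.map_id, Category.id_comp]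
  have h1 := congrArg (fun x => x ≫ prod.fst) key
  have h2 := congrArg (fun x => x ≫ prod.snd) key
  simp only [Limits.diag, Category.assoc, prod.lift_fst, prod.lift_snd, Category.comp_id] at h1 h2
  rw [h1, h2]

end GrothLib.PiPoints7
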